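import Cfsg.Agent.Lib.SylvesterSchur.Chain

/-!
# The theorem of Sylvester and Schur

If `2 * k ≤ n` and `k ≠ 0`, then `n.choose k` has a prime divisor larger than `k`.
(Erdős's elementary proof, with the small range covered by a chain of primes.)
-/

set_option autoImplicit false

namespace Cfsg.Agent.Lib.SylvesterSchur

open Finset

/-- The primes up to `k`. -/
def primesLE' (k : ℕ) : Finset ℕ := (range (k + 1)).filter Nat.Prime

theorem mem_primesLE' {k p : ℕ} : p ∈ primesLE' k ↔ p ≤ k ∧ p.Prime := by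
  simp [primesLE', Nat.lt_succ_iff]

/-- All prime divisors of `n.choose k` are at most `k`. -/
def Smooth (n k : ℕ) : Prop := ∀ p : ℕ, p.Prime → p ∣ n.choose k → p ≤ k

theorem choose_eq_prod {n k : ℕ} (hkn : k ≤ n) (h : Smooth n k) :
    n.choose k = ∏ p ∈ primesLE' k, p ^ (n.choose k).factorization p := by
  conv_lhs => rw [← Nat.prod_pow_factorization_choose n k hkn]
  refine (prod_subset (fun p hp => ?_) fun p _ hp => ?_).symm
  · rw [mem_primesLE'] at hp
    simp only [mem_range]
    omega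
  · by_cases hpp : p.Prime
    · rw [Nat.factorization_eq_zero_of_not_dvd fun hd => hp (mem_primesLE'.2 ⟨h p hpp hd, hpp⟩), pow_zero]
    · rw [Nat.factorization_eq_zero_of_not_prime _ hpp, pow_zero]

theorem choose_le_pow {n k : ℕ} (hn : 0 < n) (hkn : k ≤ n) (h : Smooth n k) :
    n.choose k ≤ n ^ (primesLE' k).card := by
  rw [choose_eq_prod hkn h, ← prod_const]
  exact prod_le_prod' fun p _ => Nat.pow_factorization_choose_le hn

theorem card_primesLE'_le_half (S : ℕ) : (primesLE' S).card ≤ S / 2 + 1 := by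
  have : (primesLE' S).card ≤ (range (S / 2 + 1)).card := by
    refine card_le_card_of_injOn (fun p => (p - 1) / 2) (fun p hp => ?_) fun p hp r hr e => ?_
    · simp only [mem_coe, mem_primesLE'] at hp
      simp only [mem_coe, mem_range]
      omega
    · simp only [mem_coe, mem_primesLE'] at hp hr
      rcases hp.2.eq_two_or_odd with h1 | h1 <;> rcases hr.2.eq_two_or_odd with h2 | h2 <;>
        have := hp.2.two_le <;> have := hr.2.two_le <;> simp only at e <;> omega
  simpa using this

theorem choose_le_of_smooth {n k : ℕ} (hn : 6 ≤ n) (hk : 2 * k ≤ n) (h : Smooth n k) :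
    n.choose k ≤ n ^ (primesLE' (Nat.sqrt n)).card * 4 ^ min k (n / 3) := by
  classical
  set f : ℕ → ℕ := fun p => p ^ (n.choose k).factorization p with hf
  rw [choose_eq_prod (by omega) h, ← prod_filter_mul_prod_filter_not (primesLE' k) (· ≤ Nat.sqrt n)]
  refine Nat.mul_le_mul ?_ ?_
  · refine (prod_le_prod' (g := fun _ => n) fun p _ => Nat.pow_factorization_choose_le (by omega)).trans ?_
    rw [prod_const]
    refine Nat.pow_le_pow_right (by omega) (card_le_card fun p hp => ?_)
    simp only [mem_filter, mem_primesLE'] at hp ⊢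
    exact ⟨hp.2, hp.1.2⟩
  · set T := (primesLE' k).filter (fun p => ¬ p ≤ Nat.sqrt n) with hT
    have step1 : ∏ p ∈ T, f p ≤ ∏ p ∈ T.filter (· ≤ n / 3), p := by
      rw [prod_filter (s := T)]
      show _ ≤ _
      refine prod_le_prod' (f := f) (s := T) ?_
      intro p hp
      simp only [hT, mem_filter, mem_primesLE'] at hp
      obtain ⟨⟨hpk, hpp⟩, hps⟩ := hp
      split
      · refine (Nat.pow_le_pow_right hpp.one_lt.le
          (Nat.factorization_choose_le_one ?_)).trans (pow_one p).le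
        exact Nat.sqrt_lt'.1 (not_le.1 hps)
      · next h3 =>
        simp only [hf]
        rw [Nat.factorization_choose_of_lt_three_mul (by omega) hpk (by omega) (by omega), pow_zero]
    have step2 : ∏ p ∈ T.filter (· ≤ n / 3), p ≤ ∏ p ∈ primesLE' (min k (n / 3)), p := by
      refine prod_le_prod_of_subset_of_one_le' (fun p hp => ?_) fun p hp _ => (mem_primesLE'.1 hp).2.one_lt.le
      simp only [hT, mem_filter, mem_primesLE'] at hp ⊢
      exact ⟨le_min hp.1.1.1 hp.2, hp.1.1.2⟩
    exact (step1.trans step2).trans (primorial_le_four_pow _)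

theorem pow_mul_le {n k : ℕ} (hkn : k ≤ n) : n ^ k ≤ k ^ k * n.choose k := by
  have key : ∀ j ≤ k, n ^ j * k.descFactorial j ≤ k ^ j * n.descFactorial j := by
    intro j
    induction j with
    | zero => simp
    | succ j ih =>
      intro hj
      have hstep : n * (k - j) ≤ k * (n - j) := by
        rw [Nat.mul_sub_left_distrib, Nat.mul_sub_left_distrib, Nat.mul_comm n k]
        exact Nat.sub_le_sub_left (Nat.mul_le_mul_right j hkn) _
      rw [Nat.descFactorial_succ, Nat.descFactorial_succ, pow_succ, pow_succ]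
      calc n ^ j * n * ((k - j) * k.descFactorial j)
          = n ^ j * k.descFactorial j * (n * (k - j)) := by ring
        _ ≤ k ^ j * n.descFactorial j * (k * (n - j)) := Nat.mul_le_mul (ih (by omega)) hstep
        _ = _ := by ring
  have h := key k le_rfl
  rw [Nat.descFactorial_self, Nat.descFactorial_eq_factorial_mul_choose] at h
  refine Nat.le_of_mul_le_mul_right (c := k.factorial) ?_ k.factorial_pos
  calc n ^ k * k.factorial ≤ k ^ k * (k.factorial * n.choose k) := h
    _ = _ := by ring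

theorem four_pow_mul_le {k : ℕ} (hk : 0 < k) :
    ∀ j ≤ k, 4 ^ k * 3 ^ j ≤ 2 * k * 2 ^ j * (2 * k + j).choose k := by
  intro j
  induction j with
  | zero => intro; simpa [Nat.centralBinom] using Nat.four_pow_le_two_mul_self_mul_centralBinom k hk
  | succ j ih =>
    intro hj
    have hs : 3 * (2 * k + j).choose k ≤ 2 * (2 * k + j + 1).choose k := by
      refine Nat.le_of_mul_le_mul_right (c := 2 * k + j + 1) ?_ (by omega)
      calc 3 * (2 * k + j).choose k * (2 * k + j + 1)
          = 3 * (2 * k + j + 1 - k) * (2 * k + j + 1).choose k := by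
            rw [mul_assoc, Nat.choose_mul_succ_eq]; ring
        _ ≤ 2 * (2 * k + j + 1) * (2 * k + j + 1).choose k := Nat.mul_le_mul_right _ (by omega)
        _ = _ := by ring
    calc 4 ^ k * 3 ^ (j + 1) = 4 ^ k * 3 ^ j * 3 := by ring
      _ ≤ 2 * k * 2 ^ j * (2 * k + j).choose k * 3 := Nat.mul_le_mul_right 3 (ih (by omega))
      _ = 2 * k * 2 ^ j * (3 * (2 * k + j).choose k) := by ring
      _ ≤ 2 * k * 2 ^ j * (2 * (2 * k + j + 1).choose k) := Nat.mul_le_mul_left _ hs
      _ = _ := by rw [← add_assoc]; ring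

theorem eight_mul_sq_le {m : ℕ} (hm : 12 ≤ m) : 2048 * (m + 6) ^ 2 ≤ 225 * 2 ^ m ∧
    8 * (m + 4) ^ 2 ≤ 2 ^ m ∧ (2 * m + 2) ^ 4 ≤ 625 * 2 ^ m ∧ 24 * (m + 6) < 2 ^ m := by
  induction m, hm using Nat.le_induction with
  | base => norm_num
  | succ m hm ih =>
    obtain ⟨h1, h2, h3, h4⟩ := ih
    refine ⟨?_, ?_, ?_, ?_⟩
    · rw [pow_succ 2 m]; nlinarith
    · rw [pow_succ 2 m]; nlinarith
    · have e : 6 * (2 * (m + 1) + 2) ≤ 7 * (2 * m + 2) := by omega
      have := Nat.pow_le_pow_left e 4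
      rw [mul_pow, mul_pow] at this
      rw [pow_succ 2 m]
      norm_num at this
      omega
    · rw [pow_succ 2 m]; omega

/-- The large range: `k` big and `n ^ 2 < k ^ 3`. -/
theorem not_smooth_large {n k : ℕ} (hk : 4096 ≤ k) (h2 : 2 * k ≤ n) (hlt : n ^ 2 < k ^ 3)
    (h : Smooth n k) : False := by
  set S := Nat.sqrt n with hS
  set m := Nat.log 2 k with hm
  have hmlo : 2 ^ m ≤ k := Nat.pow_log_le_self 2 (by omega)
  have hmhi : k < 2 ^ (m + 1) := Nat.lt_pow_succ_log_self one_lt_two k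
  have hm12 : 12 ≤ m := Nat.le_log_of_pow_le one_lt_two (by norm_num; omega)
  obtain ⟨a1, a2, a3, a4⟩ := eight_mul_sq_le hm12
  have hS2 : S * S ≤ n := Nat.sqrt_le n
  have hbound : ∀ L : ℕ, n < 2 ^ L → ∀ B : ℕ, min k (n / 3) ≤ B →
      n.choose k ≤ 2 ^ (L * (S / 2 + 1)) * 4 ^ B := by
    intro L hL B hB
    refine (choose_le_of_smooth (by omega) h2 h).trans (Nat.mul_le_mul ?_ (Nat.pow_le_pow_right (by norm_num) hB))
    calc n ^ (primesLE' S).card ≤ n ^ (S / 2 + 1) := Nat.pow_le_pow_right (by omega) (card_primesLE'_le_half S)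
      _ ≤ (2 ^ L) ^ (S / 2 + 1) := Nat.pow_le_pow_left hL.le _
      _ = _ := (pow_mul _ _ _).symm
  by_cases hA : n ≤ 8 * k
  · set T := (m + 4) * (S / 2 + 1) with hT
    have hL : n < 2 ^ (m + 4) := by
      have : 8 * k < 2 ^ (m + 4) := by rw [show m + 4 = m + 1 + 3 by omega, pow_add]; omega
      omega
    have h2k : 2 * k ≤ 2 ^ (m + 2) := by rw [show m + 2 = m + 1 + 1 by omega, pow_succ _ (m + 1)]; omega
    have main : 7 * k ≤ 12 * (m + 2 + T) := by
      by_cases hB : n ≤ 3 * k
      · obtain ⟨j, rfl⟩ := Nat.exists_eq_add_of_le h2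
        have hj : j ≤ k := by omega
        have hc := (four_pow_mul_le (by omega) j hj).trans
          (Nat.mul_le_mul_left _ (hbound _ hL ((2 * k + j) / 3) (min_le_right _ _)))
        set W := 2 * k * 2 ^ T with hW
        have hcube := Nat.pow_le_pow_left hc 3
        have e4 : (4 ^ ((2 * k + j) / 3)) ^ 3 ≤ 16 ^ k * 4 ^ j := by
          rw [← pow_mul, show (16 : ℕ) = 4 ^ 2 by norm_num, ← pow_mul, ← pow_add]
          exact Nat.pow_le_pow_right (by norm_num) (by omega)
        have h1 : 4 ^ k * 27 ^ j ≤ W ^ 3 * 32 ^ j := by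
          refine Nat.le_of_mul_le_mul_right (c := 16 ^ k) ?_ (by positivity)
          calc 4 ^ k * 27 ^ j * 16 ^ k = (4 ^ k * 3 ^ j) ^ 3 := by
                rw [mul_pow, ← pow_mul, ← pow_mul, mul_comm k 3, mul_comm j 3, pow_mul, pow_mul,
                  show (4 : ℕ) ^ 3 = 4 * 16 by norm_num, mul_pow 4 16, show (3 : ℕ) ^ 3 = 27 by norm_num]
                ring
            _ ≤ (2 * k * 2 ^ j * (2 ^ T * 4 ^ ((2 * k + j) / 3))) ^ 3 := hcube
            _ = W ^ 3 * (2 ^ j) ^ 3 * (4 ^ ((2 * k + j) / 3)) ^ 3 := by rw [hW]; ring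
            _ ≤ W ^ 3 * (2 ^ j) ^ 3 * (16 ^ k * 4 ^ j) := Nat.mul_le_mul_left _ e4
            _ = W ^ 3 * 32 ^ j * 16 ^ k := by
                rw [← pow_mul 2 j 3, mul_comm j 3, pow_mul,
                  show (32 : ℕ) = 2 ^ 3 * 4 by norm_num, mul_pow (2 ^ 3) 4]
                ring
        have h2' : 27 ^ k ≤ W ^ 3 * 8 ^ k := by
          obtain ⟨i, rfl⟩ := Nat.exists_eq_add_of_le hj
          refine Nat.le_of_mul_le_mul_right (c := 32 ^ j) ?_ (by positivity)
          calc 27 ^ (j + i) * 32 ^ j ≤ 32 ^ (j + i) * 27 ^ j := by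
                rw [pow_add, pow_add]
                calc 27 ^ j * 27 ^ i * 32 ^ j = 27 ^ j * 32 ^ j * 27 ^ i := by ring
                  _ ≤ 27 ^ j * 32 ^ j * 32 ^ i := Nat.mul_le_mul_left _ (Nat.pow_le_pow_left (by norm_num) i)
                  _ = _ := by ring
            _ = 4 ^ (j + i) * 27 ^ j * 8 ^ (j + i) := by
                rw [show (32 : ℕ) = 4 * 8 by norm_num, mul_pow]; ring
            _ ≤ W ^ 3 * 32 ^ j * 8 ^ (j + i) := Nat.mul_le_mul_right _ h1
            _ = _ := by ring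
        have h3 : 2 ^ (19 * k) ≤ 2 ^ (12 * (m + 2 + T) + 12 * k) := by
          calc 2 ^ (19 * k) = (2 ^ 19) ^ k := pow_mul _ _ _
            _ ≤ (27 ^ 4) ^ k := Nat.pow_le_pow_left (by norm_num) k
            _ = (27 ^ k) ^ 4 := by rw [← pow_mul, ← pow_mul, mul_comm]
            _ ≤ (W ^ 3 * 8 ^ k) ^ 4 := Nat.pow_le_pow_left h2' 4
            _ ≤ ((2 ^ (m + 2 + T)) ^ 3 * 8 ^ k) ^ 4 := by
                refine Nat.pow_le_pow_left (Nat.mul_le_mul_right _ (Nat.pow_le_pow_left ?_ 3)) 4
                rw [hW, pow_add]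
                exact Nat.mul_le_mul_right _ h2k
            _ = _ := by
                rw [show (8 : ℕ) = 2 ^ 3 by norm_num, ← pow_mul, ← pow_mul, ← pow_add, ← pow_mul]
                congr 1
                ring
        have := (Nat.pow_le_pow_iff_right one_lt_two).1 h3
        omega
      · have hc := (four_pow_mul_le (by omega) k le_rfl).trans (Nat.mul_le_mul_left _
          ((Nat.choose_le_choose k (show 2 * k + k ≤ n by omega)).trans (hbound _ hL k (min_le_left _ _))))
        have h1 : 3 ^ k ≤ 2 * k * 2 ^ T * 2 ^ k := by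
          refine Nat.le_of_mul_le_mul_right (c := 4 ^ k) ?_ (by positivity)
          calc 3 ^ k * 4 ^ k = 4 ^ k * 3 ^ k := mul_comm _ _
            _ ≤ 2 * k * 2 ^ k * (2 ^ T * 4 ^ k) := hc
            _ = _ := by ring
        have h3 : 2 ^ (19 * k) ≤ 2 ^ (12 * (m + 2 + T) + 12 * k) := by
          calc 2 ^ (19 * k) = (2 ^ 19) ^ k := pow_mul _ _ _
            _ ≤ (3 ^ 12) ^ k := Nat.pow_le_pow_left (by norm_num) k
            _ = (3 ^ k) ^ 12 := by rw [← pow_mul, ← pow_mul, mul_comm]
            _ ≤ (2 * k * 2 ^ T * 2 ^ k) ^ 12 := Nat.pow_le_pow_left h1 12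
            _ ≤ (2 ^ (m + 2) * 2 ^ T * 2 ^ k) ^ 12 :=
                Nat.pow_le_pow_left (Nat.mul_le_mul_right _ (Nat.mul_le_mul_right _ h2k)) 12
            _ = _ := by rw [← pow_add, ← pow_add, ← pow_mul]; congr 1; ring
        have := (Nat.pow_le_pow_iff_right one_lt_two).1 h3
        omega
    have hSk : S * (m + 4) ≤ k := by
      refine (Nat.pow_le_pow_iff_left two_ne_zero).1 ?_
      calc (S * (m + 4)) ^ 2 = S * S * (m + 4) ^ 2 := by ring
        _ ≤ 8 * k * (m + 4) ^ 2 := Nat.mul_le_mul_right _ (hS2.trans hA)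
        _ = k * (8 * (m + 4) ^ 2) := by ring
        _ ≤ k * k := Nat.mul_le_mul_left _ (a2.trans hmlo)
        _ = k ^ 2 := (sq k).symm
    have hT2 : 2 * T ≤ S * (m + 4) + 2 * (m + 4) := by
      have : 2 * (S / 2) ≤ S := by omega
      have := Nat.mul_le_mul_left (m + 4) this
      rw [hT]
      nlinarith
    omega
  · have hp : n ^ k ≤ k ^ k * n.choose k := pow_mul_le (by omega)
    by_cases hB : n < 32 * k
    · set L := m + 6 with hLd
      set T := L * (S / 2 + 1) with hT
      have hL : n < 2 ^ L := by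
        have : 32 * k < 2 ^ L := by rw [hLd, show m + 6 = m + 1 + 5 by omega, pow_add]; omega
        omega
      have h1 : k ≤ T := by
        have := (Nat.pow_le_pow_left (show 8 * k ≤ n by omega) k).trans
          (hp.trans (Nat.mul_le_mul_left _ (hbound L hL k (min_le_left _ _))))
        rw [mul_pow, mul_comm] at this
        have h8 := Nat.le_of_mul_le_mul_left this (pow_pos (by omega) k)
        rw [show (8 : ℕ) = 2 ^ 3 by norm_num, show (4 : ℕ) = 2 ^ 2 by norm_num, ← pow_mul, ← pow_mul,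
          ← pow_add] at h8
        have := (Nat.pow_le_pow_iff_right one_lt_two).1 h8
        omega
      have hSk : 8 * (S * L) ≤ 15 * k := by
        refine (Nat.pow_le_pow_iff_left two_ne_zero).1 ?_
        calc (8 * (S * L)) ^ 2 = S * S * (64 * L ^ 2) := by ring
          _ ≤ 32 * k * (64 * L ^ 2) := Nat.mul_le_mul_right _ (hS2.trans hB.le)
          _ = k * (2048 * L ^ 2) := by ring
          _ ≤ k * (225 * k) := Nat.mul_le_mul_left _ (a1.trans (Nat.mul_le_mul_left _ hmlo))
          _ = (15 * k) ^ 2 := by ring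
      have hT2 : 2 * T ≤ S * L + 2 * L := by
        have : 2 * (S / 2) ≤ S := by omega
        have := Nat.mul_le_mul_left L this
        rw [hT]
        nlinarith
      omega
    · set L := (3 * (m + 1) + 1) / 2 with hLd
      set T := L * (S / 2 + 1) with hT
      have hL : n < 2 ^ L := by
        refine lt_of_pow_lt_pow_left' 2 (hlt.trans_le ?_)
        calc k ^ 3 ≤ (2 ^ (m + 1)) ^ 3 := Nat.pow_le_pow_left hmhi.le 3
          _ ≤ (2 ^ L) ^ 2 := by
            rw [← pow_mul, ← pow_mul]; exact Nat.pow_le_pow_right (by norm_num) (by omega)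
      have h1 : 3 * k ≤ T := by
        have := (Nat.pow_le_pow_left (show 32 * k ≤ n by omega) k).trans
          (hp.trans (Nat.mul_le_mul_left _ (hbound L hL k (min_le_left _ _))))
        rw [mul_pow, mul_comm] at this
        have h8 := Nat.le_of_mul_le_mul_left this (pow_pos (by omega) k)
        rw [show (32 : ℕ) = 2 ^ 5 by norm_num, show (4 : ℕ) = 2 ^ 2 by norm_num, ← pow_mul, ← pow_mul,
          ← pow_add] at h8
        have := (Nat.pow_le_pow_iff_right one_lt_two).1 h8
        omega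
      have hSk : S * L ≤ 5 * k := by
        refine (Nat.pow_le_pow_iff_left (show 4 ≠ 0 by norm_num)).1 ?_
        calc (S * L) ^ 4 = (S * S) ^ 2 * L ^ 4 := by ring
          _ ≤ k ^ 3 * (2 * m + 2) ^ 4 :=
              Nat.mul_le_mul ((Nat.pow_le_pow_left hS2 2).trans hlt.le)
                (Nat.pow_le_pow_left (by omega) 4)
          _ ≤ k ^ 3 * (625 * k) := Nat.mul_le_mul_left _ (a3.trans (Nat.mul_le_mul_left _ hmlo))
          _ = (5 * k) ^ 4 := by ring
      have hT2 : 2 * T ≤ S * L + 2 * L := by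
        have : 2 * (S / 2) ≤ S := by omega
        have := Nat.mul_le_mul_left L this
        rw [hT]
        nlinarith
      omega

theorem exists_prime_mem_window {n k : ℕ} (hkn : 2 * k ≤ n) {q : ℕ} (hq : q.Prime) (hqn : q ≤ n)
    (hnq : n < q + k) : q.Prime ∧ k < q ∧ q ∣ n.choose k := by
  refine ⟨hq, by omega, hq.dvd_choose (by omega) (by omega) hqn⟩

/-- The primes up to `k` are few: `3 * π(k) < k` for `34 ≤ k`. -/
theorem three_mul_card_lt {k : ℕ} (hk : 34 ≤ k) : 3 * (primesLE' k).card < k := by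
  by_cases hk' : 166 ≤ k
  · have h1 : (primesLE' k).card ≤ Nat.primeCounting' (k + 1) := by
      rw [Nat.primeCounting', Nat.count_eq_card_filter_range]; rfl
    have h2 : Nat.primeCounting' (31 + (k - 30)) ≤
        Nat.primeCounting' 31 + Nat.totient 30 * ((k - 30) / 30 + 1) :=
      Nat.primeCounting'_add_le (by norm_num) (by norm_num) _
    have h3 : Nat.totient 30 = 8 := by decide
    have h4 : Nat.primeCounting' 31 ≤ 10 := by decide
    rw [show 31 + (k - 30) = k + 1 by omega, h3] at h2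
    omega
  · have hsub : primesLE' k ⊆ {2, 3, 5, 7} ∪ (range (k + 1)).filter (fun i => i ≠ 1 ∧ Nat.gcd i 210 = 1) := by
      intro p hp
      rw [mem_primesLE'] at hp
      simp only [mem_union, mem_insert, mem_singleton, mem_filter, mem_range]
      by_cases h : p ∣ 210
      · left
        have : p ∈ Nat.primeFactors 210 := Nat.mem_primeFactors.2 ⟨hp.2, h, by norm_num⟩
        rw [show (210 : ℕ) = 2 * (3 * (5 * 7)) by norm_num] at h
        rcases (Nat.prime_mul_iff.not.2 (by norm_num) : ¬ Nat.Prime (2 * (3 * (5 * 7)))) |> fun _ =>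
          hp.2.dvd_mul.1 h with h | h
        · exact Or.inl ((Nat.prime_dvd_prime_iff_eq hp.2 Nat.prime_two).1 h)
        rcases hp.2.dvd_mul.1 h with h | h
        · exact Or.inr (Or.inl ((Nat.prime_dvd_prime_iff_eq hp.2 Nat.prime_three).1 h))
        rcases hp.2.dvd_mul.1 h with h | h
        · exact Or.inr (Or.inr (Or.inl ((Nat.prime_dvd_prime_iff_eq hp.2 Nat.prime_five).1 h)))
        · exact Or.inr (Or.inr (Or.inr ((Nat.prime_dvd_prime_iff_eq hp.2 (by norm_num)).1 h)))
      · exact Or.inr ⟨by omega, hp.2.ne_one, (hp.2.coprime_iff_not_dvd.2 h)⟩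
    have hcheck : ∀ j < 166, 34 ≤ j →
        3 * (4 + ((range (j + 1)).filter (fun i => i ≠ 1 ∧ Nat.gcd i 210 = 1)).card) < j := by decide +kernel
    refine lt_of_le_of_lt (Nat.mul_le_mul_left 3 ((card_le_card hsub).trans ((card_union_le _ _).trans ?_)))
      (hcheck k (by omega) hk)
    exact Nat.add_le_add_right (by decide) _

/-- Counting the numbers up to `k` without a proper divisor. -/
def smallPrimes (k : ℕ) : Finset ℕ :=
  (range (k + 1)).filter (fun i => 2 ≤ i ∧ ∀ d ∈ range i, d < 2 ∨ i % d ≠ 0)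

theorem primesLE'_subset_small (k : ℕ) : primesLE' k ⊆ smallPrimes k := by
  intro p hp
  rw [mem_primesLE'] at hp
  simp only [smallPrimes, mem_filter, mem_range]
  refine ⟨by omega, hp.2.two_le, fun d hd => ?_⟩
  by_contra hc
  push Not at hc
  rcases hp.2.eq_one_or_self_of_dvd d (Nat.dvd_of_mod_eq_zero hc.2) with h | h <;> omega

/-- For `k < 34` the lower bound `256` on `n` is enough. -/
theorem small_k_pow {k : ℕ} (h2 : 2 ≤ k) (hk : k < 34) :
    (primesLE' k).card ≤ k ∧ k ^ k < 256 ^ (k - (primesLE' k).card) := by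
  have hcheck : ∀ j < 34, 2 ≤ j → (smallPrimes j).card ≤ j ∧ j ^ j < 256 ^ (j - (smallPrimes j).card) := by
    decide +kernel
  obtain ⟨h, h'⟩ := hcheck k hk h2
  have hle := card_le_card (primesLE'_subset_small k)
  exact ⟨hle.trans h, h'.trans_le (Nat.pow_le_pow_right (by norm_num) (by omega))⟩

theorem dvd_pow_factorial {a k L : ℕ} (ha : a ≠ 0) (haL : a < 2 ^ L)
    (h : ∀ p : ℕ, p.Prime → p ∣ a → p ≤ k) : a ∣ k.factorial ^ L := by
  rw [Nat.dvd_iff_prime_pow_dvd_dvd]
  intro p e hp hpe
  rcases Nat.eq_zero_or_pos e with rfl | he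
  · simp
  have heL : e ≤ L := by
    by_contra hc
    have h1 : 2 ^ e ≤ p ^ e := Nat.pow_le_pow_left hp.two_le e
    have h2 := Nat.le_of_dvd (Nat.pos_of_ne_zero ha) hpe
    have h3 : 2 ^ L ≤ 2 ^ e := Nat.pow_le_pow_right (by norm_num) (by omega)
    omega
  exact (pow_dvd_pow p heL).trans (pow_dvd_pow_of_dvd
    (Nat.dvd_factorial hp.pos (h p hp ((dvd_pow_self p he.ne').trans hpe))) L)

theorem small_range {n k : ℕ} (hk : k < 34) (hk0 : 0 < k) (hkn : 2 * k ≤ n) (hn : n < 256) :
    ∃ i < k, ¬ (n - i) ∣ k.factorial ^ 8 := by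
  have hcheck : ∀ j < 34, 0 < j → ∀ l < 256, 2 * j ≤ l → ∃ i < j, ¬ (l - i) ∣ j.factorial ^ 8 := by
    decide +kernel
  exact hcheck k hk hk0 n hn hkn

/-- **Sylvester–Schur.** -/
theorem exists_prime_gt_dvd_choose {n k : ℕ} (hk : 0 < k) (hkn : 2 * k ≤ n) :
    ∃ p : ℕ, p.Prime ∧ k < p ∧ p ∣ n.choose k := by
  by_contra hc
  push Not at hc
  have hsm : Smooth n k := fun p hp hd => not_lt.1 fun hlt => hc p hp hlt hd
  rcases eq_or_ne k 1 with rfl | hk1
  · obtain ⟨p, hp, hd⟩ := Nat.exists_prime_and_dvd (show n ≠ 1 by omega)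
    exact hc p hp hp.one_lt (by simpa using hd)
  by_cases hn256 : n < 256 ∧ k < 34
  · obtain ⟨i, hi, hnd⟩ := small_range hn256.2 hk hkn hn256.1
    refine hnd (dvd_pow_factorial (by omega) (by norm_num; omega) fun p hp hd => not_lt.1 fun hlt => ?_)
    have hdesc : p ∣ n.descFactorial k := by
      refine hd.trans ?_
      rw [Nat.descFactorial_eq_prod_range]
      exact dvd_prod_of_mem _ (mem_range.2 hi)
    rw [Nat.descFactorial_eq_factorial_mul_choose] at hdesc
    rcases hp.dvd_mul.1 hdesc with h | h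
    · exact absurd ((hp.dvd_factorial).1 h) (by omega)
    · exact hc p hp hlt h
  by_cases hlt : n ^ 2 < k ^ 3
  · by_cases hk4 : 4096 ≤ k
    · exact not_smooth_large hk4 hkn hlt hsm
    have hN : n < 262144 := by
      refine lt_of_pow_lt_pow_left' 2 (hlt.trans_le ?_)
      exact (Nat.pow_le_pow_left (show k ≤ 4096 by omega) 3).trans (by norm_num)
    by_cases h113 : 113 ≤ n
    · obtain ⟨q, hq, hqn, hnq⟩ := window n k h113 hN hlt
      obtain ⟨a, b, c⟩ := exists_prime_mem_window hkn hq hqn hnq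
      exact hc q a b c
    · -- here `34 ≤ k`, so `68 ≤ n < 113`
      have hk34 : 34 ≤ k := by omega
      have : ∃ q, q.Prime ∧ q ≤ n ∧ n < q + k := by
        rcases le_or_gt 97 n with h | h
        · exact ⟨97, by norm_num, h, by omega⟩
        · exact ⟨67, by norm_num, by omega, by omega⟩
      obtain ⟨q, hq, hqn, hnq⟩ := this
      obtain ⟨a, b, c⟩ := exists_prime_mem_window hkn hq hqn hnq
      exact hc q a b c
  · have h1 : n ^ k ≤ k ^ k * n ^ (primesLE' k).card :=
      (pow_mul_le (by omega)).trans (Nat.mul_le_mul_left _ (choose_le_pow (by omega) (by omega) hsm))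
    have hpos : 0 < n ^ (primesLE' k).card := pow_pos (by omega) _
    by_cases h34 : 34 ≤ k
    · have h3 := three_mul_card_lt h34
      set c := (primesLE' k).card with hcdef
      obtain ⟨d, hd⟩ := Nat.exists_eq_add_of_le (show c ≤ k by omega)
      rw [show n ^ k = n ^ d * n ^ c by rw [← pow_add]; congr 1; omega] at h1
      have h4 := Nat.le_of_mul_le_mul_right h1 hpos
      have h5 : (k ^ 3) ^ d ≤ (k ^ k) ^ 2 := by
        calc (k ^ 3) ^ d ≤ (n ^ 2) ^ d := Nat.pow_le_pow_left (not_lt.1 hlt) d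
          _ = (n ^ d) ^ 2 := by rw [← pow_mul, ← pow_mul, mul_comm]
          _ ≤ _ := Nat.pow_le_pow_left h4 2
      rw [← pow_mul, ← pow_mul] at h5
      have := (Nat.pow_le_pow_iff_right (show 1 < k by omega)).1 h5
      omega
    · obtain ⟨hle, h2⟩ := small_k_pow (show 2 ≤ k by omega) (by omega)
      set c := (primesLE' k).card with hcdef
      rw [show n ^ k = n ^ (k - c) * n ^ c by rw [← pow_add]; congr 1; omega] at h1
      have h4 := Nat.le_of_mul_le_mul_right h1 hpos
      have h5 : 256 ^ (k - c) ≤ n ^ (k - c) := Nat.pow_le_pow_left (by omega) _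
      omega

end Cfsg.Agent.Lib.SylvesterSchur
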