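import Mathlib

/-!
# A chain of primes for the middle range of Sylvester's theorem
-/

set_option autoImplicit false

namespace Cfsg.Agent.Lib.SylvesterSchur

/-- Every short interval below the bound, of length `k` with `n ^ 2 < k ^ 3`, contains a prime. -/
def Window (lo : ℕ) : Prop :=
  ∀ n k : ℕ, lo ≤ n → n < 262144 → n ^ 2 < k ^ 3 → ∃ q, q.Prime ∧ q ≤ n ∧ n < q + k

theorem step {q : ℕ} (q' : ℕ) (hq : q.Prime) (hgap : (q' - q) ^ 3 ≤ q ^ 2) (h : Window q') :
    Window q := by
  intro n k hlo hn hk
  by_cases hc : q' ≤ n
  · exact h n k hc hn hk
  refine ⟨q, hq, hlo, ?_⟩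
  by_contra hqk
  have h1 : k ^ 3 ≤ (q' - q) ^ 3 := Nat.pow_le_pow_left (by omega) 3
  have h2 : q ^ 2 ≤ n ^ 2 := Nat.pow_le_pow_left hlo 2
  omega

theorem window_end {q : ℕ} (hq : 262144 ≤ q) : Window q := fun _ _ h1 h2 _ => absurd h2 (by omega)

theorem window : Window 113 := by
  refine step 131 (by norm_num : Nat.Prime 113) (by norm_num) ?_
  refine step 151 (by norm_num : Nat.Prime 131) (by norm_num) ?_
  refine step 179 (by norm_num : Nat.Prime 151) (by norm_num) ?_
  refine step 199 (by norm_num : Nat.Prime 179) (by norm_num) ?_
  refine step 233 (by norm_num : Nat.Prime 199) (by norm_num) ?_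
  refine step 269 (by norm_num : Nat.Prime 233) (by norm_num) ?_
  refine step 307 (by norm_num : Nat.Prime 269) (by norm_num) ?_
  refine step 349 (by norm_num : Nat.Prime 307) (by norm_num) ?_
  refine step 397 (by norm_num : Nat.Prime 349) (by norm_num) ?_
  refine step 449 (by norm_num : Nat.Prime 397) (by norm_num) ?_
  refine step 503 (by norm_num : Nat.Prime 449) (by norm_num) ?_
  refine step 563 (by norm_num : Nat.Prime 503) (by norm_num) ?_
  refine step 631 (by norm_num : Nat.Prime 563) (by norm_num) ?_
  refine step 701 (by norm_num : Nat.Prime 631) (by norm_num) ?_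
  refine step 773 (by norm_num : Nat.Prime 701) (by norm_num) ?_
  refine step 857 (by norm_num : Nat.Prime 773) (by norm_num) ?_
  refine step 947 (by norm_num : Nat.Prime 857) (by norm_num) ?_
  refine step 1039 (by norm_num : Nat.Prime 947) (by norm_num) ?_
  refine step 1129 (by norm_num : Nat.Prime 1039) (by norm_num) ?_
  refine step 1237 (by norm_num : Nat.Prime 1129) (by norm_num) ?_
  refine step 1327 (by norm_num : Nat.Prime 1237) (by norm_num) ?_
  refine step 1447 (by norm_num : Nat.Prime 1327) (by norm_num) ?_
  refine step 1571 (by norm_num : Nat.Prime 1447) (by norm_num) ?_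
  refine step 1699 (by norm_num : Nat.Prime 1571) (by norm_num) ?_
  refine step 1831 (by norm_num : Nat.Prime 1699) (by norm_num) ?_
  refine step 1979 (by norm_num : Nat.Prime 1831) (by norm_num) ?_
  refine step 2131 (by norm_num : Nat.Prime 1979) (by norm_num) ?_
  refine step 2293 (by norm_num : Nat.Prime 2131) (by norm_num) ?_
  refine step 2459 (by norm_num : Nat.Prime 2293) (by norm_num) ?_
  refine step 2633 (by norm_num : Nat.Prime 2459) (by norm_num) ?_
  refine step 2819 (by norm_num : Nat.Prime 2633) (by norm_num) ?_
  refine step 3011 (by norm_num : Nat.Prime 2819) (by norm_num) ?_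
  refine step 3217 (by norm_num : Nat.Prime 3011) (by norm_num) ?_
  refine step 3433 (by norm_num : Nat.Prime 3217) (by norm_num) ?_
  refine step 3659 (by norm_num : Nat.Prime 3433) (by norm_num) ?_
  refine step 3889 (by norm_num : Nat.Prime 3659) (by norm_num) ?_
  refine step 4133 (by norm_num : Nat.Prime 3889) (by norm_num) ?_
  refine step 4373 (by norm_num : Nat.Prime 4133) (by norm_num) ?_
  refine step 4639 (by norm_num : Nat.Prime 4373) (by norm_num) ?_
  refine step 4909 (by norm_num : Nat.Prime 4639) (by norm_num) ?_
  refine step 5197 (by norm_num : Nat.Prime 4909) (by norm_num) ?_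
  refine step 5483 (by norm_num : Nat.Prime 5197) (by norm_num) ?_
  refine step 5791 (by norm_num : Nat.Prime 5483) (by norm_num) ?_
  refine step 6113 (by norm_num : Nat.Prime 5791) (by norm_num) ?_
  refine step 6427 (by norm_num : Nat.Prime 6113) (by norm_num) ?_
  refine step 6763 (by norm_num : Nat.Prime 6427) (by norm_num) ?_
  refine step 7109 (by norm_num : Nat.Prime 6763) (by norm_num) ?_
  refine step 7477 (by norm_num : Nat.Prime 7109) (by norm_num) ?_
  refine step 7853 (by norm_num : Nat.Prime 7477) (by norm_num) ?_
  refine step 8243 (by norm_num : Nat.Prime 7853) (by norm_num) ?_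
  refine step 8647 (by norm_num : Nat.Prime 8243) (by norm_num) ?_
  refine step 9067 (by norm_num : Nat.Prime 8647) (by norm_num) ?_
  refine step 9497 (by norm_num : Nat.Prime 9067) (by norm_num) ?_
  refine step 9941 (by norm_num : Nat.Prime 9497) (by norm_num) ?_
  refine step 10399 (by norm_num : Nat.Prime 9941) (by norm_num) ?_
  refine step 10867 (by norm_num : Nat.Prime 10399) (by norm_num) ?_
  refine step 11353 (by norm_num : Nat.Prime 10867) (by norm_num) ?_
  refine step 11839 (by norm_num : Nat.Prime 11353) (by norm_num) ?_
  refine step 12347 (by norm_num : Nat.Prime 11839) (by norm_num) ?_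
  refine step 12853 (by norm_num : Nat.Prime 12347) (by norm_num) ?_
  refine step 13399 (by norm_num : Nat.Prime 12853) (by norm_num) ?_
  refine step 13963 (by norm_num : Nat.Prime 13399) (by norm_num) ?_
  refine step 14537 (by norm_num : Nat.Prime 13963) (by norm_num) ?_
  refine step 15131 (by norm_num : Nat.Prime 14537) (by norm_num) ?_
  refine step 15739 (by norm_num : Nat.Prime 15131) (by norm_num) ?_
  refine step 16363 (by norm_num : Nat.Prime 15739) (by norm_num) ?_
  refine step 16993 (by norm_num : Nat.Prime 16363) (by norm_num) ?_
  refine step 17627 (by norm_num : Nat.Prime 16993) (by norm_num) ?_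
  refine step 18301 (by norm_num : Nat.Prime 17627) (by norm_num) ?_
  refine step 18979 (by norm_num : Nat.Prime 18301) (by norm_num) ?_
  refine step 19687 (by norm_num : Nat.Prime 18979) (by norm_num) ?_
  refine step 20411 (by norm_num : Nat.Prime 19687) (by norm_num) ?_
  refine step 21157 (by norm_num : Nat.Prime 20411) (by norm_num) ?_
  refine step 21911 (by norm_num : Nat.Prime 21157) (by norm_num) ?_
  refine step 22691 (by norm_num : Nat.Prime 21911) (by norm_num) ?_
  refine step 23473 (by norm_num : Nat.Prime 22691) (by norm_num) ?_
  refine step 24281 (by norm_num : Nat.Prime 23473) (by norm_num) ?_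
  refine step 25117 (by norm_num : Nat.Prime 24281) (by norm_num) ?_
  refine step 25969 (by norm_num : Nat.Prime 25117) (by norm_num) ?_
  refine step 26839 (by norm_num : Nat.Prime 25969) (by norm_num) ?_
  refine step 27733 (by norm_num : Nat.Prime 26839) (by norm_num) ?_
  refine step 28649 (by norm_num : Nat.Prime 27733) (by norm_num) ?_
  refine step 29581 (by norm_num : Nat.Prime 28649) (by norm_num) ?_
  refine step 30529 (by norm_num : Nat.Prime 29581) (by norm_num) ?_
  refine step 31489 (by norm_num : Nat.Prime 30529) (by norm_num) ?_
  refine step 32479 (by norm_num : Nat.Prime 31489) (by norm_num) ?_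
  refine step 33493 (by norm_num : Nat.Prime 32479) (by norm_num) ?_
  refine step 34519 (by norm_num : Nat.Prime 33493) (by norm_num) ?_
  refine step 35573 (by norm_num : Nat.Prime 34519) (by norm_num) ?_
  refine step 36653 (by norm_num : Nat.Prime 35573) (by norm_num) ?_
  refine step 37747 (by norm_num : Nat.Prime 36653) (by norm_num) ?_
  refine step 38867 (by norm_num : Nat.Prime 37747) (by norm_num) ?_
  refine step 40013 (by norm_num : Nat.Prime 38867) (by norm_num) ?_
  refine step 41179 (by norm_num : Nat.Prime 40013) (by norm_num) ?_
  refine step 42359 (by norm_num : Nat.Prime 41179) (by norm_num) ?_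
  refine step 43573 (by norm_num : Nat.Prime 42359) (by norm_num) ?_
  refine step 44809 (by norm_num : Nat.Prime 43573) (by norm_num) ?_
  refine step 46061 (by norm_num : Nat.Prime 44809) (by norm_num) ?_
  refine step 47339 (by norm_num : Nat.Prime 46061) (by norm_num) ?_
  refine step 48647 (by norm_num : Nat.Prime 47339) (by norm_num) ?_
  refine step 49957 (by norm_num : Nat.Prime 48647) (by norm_num) ?_
  refine step 51307 (by norm_num : Nat.Prime 49957) (by norm_num) ?_
  refine step 52673 (by norm_num : Nat.Prime 51307) (by norm_num) ?_
  refine step 54059 (by norm_num : Nat.Prime 52673) (by norm_num) ?_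
  refine step 55487 (by norm_num : Nat.Prime 54059) (by norm_num) ?_
  refine step 56941 (by norm_num : Nat.Prime 55487) (by norm_num) ?_
  refine step 58417 (by norm_num : Nat.Prime 56941) (by norm_num) ?_
  refine step 59921 (by norm_num : Nat.Prime 58417) (by norm_num) ?_
  refine step 61441 (by norm_num : Nat.Prime 59921) (by norm_num) ?_
  refine step 62989 (by norm_num : Nat.Prime 61441) (by norm_num) ?_
  refine step 64567 (by norm_num : Nat.Prime 62989) (by norm_num) ?_
  refine step 66173 (by norm_num : Nat.Prime 64567) (by norm_num) ?_
  refine step 67807 (by norm_num : Nat.Prime 66173) (by norm_num) ?_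
  refine step 69467 (by norm_num : Nat.Prime 67807) (by norm_num) ?_
  refine step 71153 (by norm_num : Nat.Prime 69467) (by norm_num) ?_
  refine step 72869 (by norm_num : Nat.Prime 71153) (by norm_num) ?_
  refine step 74611 (by norm_num : Nat.Prime 72869) (by norm_num) ?_
  refine step 76379 (by norm_num : Nat.Prime 74611) (by norm_num) ?_
  refine step 78179 (by norm_num : Nat.Prime 76379) (by norm_num) ?_
  refine step 79999 (by norm_num : Nat.Prime 78179) (by norm_num) ?_
  refine step 81853 (by norm_num : Nat.Prime 79999) (by norm_num) ?_
  refine step 83737 (by norm_num : Nat.Prime 81853) (by norm_num) ?_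
  refine step 85643 (by norm_num : Nat.Prime 83737) (by norm_num) ?_
  refine step 87583 (by norm_num : Nat.Prime 85643) (by norm_num) ?_
  refine step 89533 (by norm_num : Nat.Prime 87583) (by norm_num) ?_
  refine step 91529 (by norm_num : Nat.Prime 89533) (by norm_num) ?_
  refine step 93559 (by norm_num : Nat.Prime 91529) (by norm_num) ?_
  refine step 95617 (by norm_num : Nat.Prime 93559) (by norm_num) ?_
  refine step 97687 (by norm_num : Nat.Prime 95617) (by norm_num) ?_
  refine step 99793 (by norm_num : Nat.Prime 97687) (by norm_num) ?_
  refine step 101939 (by norm_num : Nat.Prime 99793) (by norm_num) ?_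
  refine step 104119 (by norm_num : Nat.Prime 101939) (by norm_num) ?_
  refine step 106331 (by norm_num : Nat.Prime 104119) (by norm_num) ?_
  refine step 108571 (by norm_num : Nat.Prime 106331) (by norm_num) ?_
  refine step 110821 (by norm_num : Nat.Prime 108571) (by norm_num) ?_
  refine step 113123 (by norm_num : Nat.Prime 110821) (by norm_num) ?_
  refine step 115459 (by norm_num : Nat.Prime 113123) (by norm_num) ?_
  refine step 117811 (by norm_num : Nat.Prime 115459) (by norm_num) ?_
  refine step 120209 (by norm_num : Nat.Prime 117811) (by norm_num) ?_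
  refine step 122611 (by norm_num : Nat.Prime 120209) (by norm_num) ?_
  refine step 125063 (by norm_num : Nat.Prime 122611) (by norm_num) ?_
  refine step 127549 (by norm_num : Nat.Prime 125063) (by norm_num) ?_
  refine step 130079 (by norm_num : Nat.Prime 127549) (by norm_num) ?_
  refine step 132637 (by norm_num : Nat.Prime 130079) (by norm_num) ?_
  refine step 135221 (by norm_num : Nat.Prime 132637) (by norm_num) ?_
  refine step 137849 (by norm_num : Nat.Prime 135221) (by norm_num) ?_
  refine step 140477 (by norm_num : Nat.Prime 137849) (by norm_num) ?_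
  refine step 143177 (by norm_num : Nat.Prime 140477) (by norm_num) ?_
  refine step 145903 (by norm_num : Nat.Prime 143177) (by norm_num) ?_
  refine step 148669 (by norm_num : Nat.Prime 145903) (by norm_num) ?_
  refine step 151471 (by norm_num : Nat.Prime 148669) (by norm_num) ?_
  refine step 154303 (by norm_num : Nat.Prime 151471) (by norm_num) ?_
  refine step 157177 (by norm_num : Nat.Prime 154303) (by norm_num) ?_
  refine step 160087 (by norm_num : Nat.Prime 157177) (by norm_num) ?_
  refine step 163027 (by norm_num : Nat.Prime 160087) (by norm_num) ?_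
  refine step 165983 (by norm_num : Nat.Prime 163027) (by norm_num) ?_
  refine step 169003 (by norm_num : Nat.Prime 165983) (by norm_num) ?_
  refine step 172049 (by norm_num : Nat.Prime 169003) (by norm_num) ?_
  refine step 175141 (by norm_num : Nat.Prime 172049) (by norm_num) ?_
  refine step 178261 (by norm_num : Nat.Prime 175141) (by norm_num) ?_
  refine step 181421 (by norm_num : Nat.Prime 178261) (by norm_num) ?_
  refine step 184609 (by norm_num : Nat.Prime 181421) (by norm_num) ?_
  refine step 187843 (by norm_num : Nat.Prime 184609) (by norm_num) ?_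
  refine step 191119 (by norm_num : Nat.Prime 187843) (by norm_num) ?_
  refine step 194431 (by norm_num : Nat.Prime 191119) (by norm_num) ?_
  refine step 197779 (by norm_num : Nat.Prime 194431) (by norm_num) ?_
  refine step 201167 (by norm_num : Nat.Prime 197779) (by norm_num) ?_
  refine step 204599 (by norm_num : Nat.Prime 201167) (by norm_num) ?_
  refine step 208067 (by norm_num : Nat.Prime 204599) (by norm_num) ?_
  refine step 211573 (by norm_num : Nat.Prime 208067) (by norm_num) ?_
  refine step 215123 (by norm_num : Nat.Prime 211573) (by norm_num) ?_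
  refine step 218711 (by norm_num : Nat.Prime 215123) (by norm_num) ?_
  refine step 222337 (by norm_num : Nat.Prime 218711) (by norm_num) ?_
  refine step 226007 (by norm_num : Nat.Prime 222337) (by norm_num) ?_
  refine step 229717 (by norm_num : Nat.Prime 226007) (by norm_num) ?_
  refine step 233437 (by norm_num : Nat.Prime 229717) (by norm_num) ?_
  refine step 237217 (by norm_num : Nat.Prime 233437) (by norm_num) ?_
  refine step 241049 (by norm_num : Nat.Prime 237217) (by norm_num) ?_
  refine step 244901 (by norm_num : Nat.Prime 241049) (by norm_num) ?_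
  refine step 248813 (by norm_num : Nat.Prime 244901) (by norm_num) ?_
  refine step 252767 (by norm_num : Nat.Prime 248813) (by norm_num) ?_
  refine step 256757 (by norm_num : Nat.Prime 252767) (by norm_num) ?_
  refine step 260791 (by norm_num : Nat.Prime 256757) (by norm_num) ?_
  refine step 264871 (by norm_num : Nat.Prime 260791) (by norm_num) ?_
  exact window_end (by norm_num)

end Cfsg.Agent.Lib.SylvesterSchur
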